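/-
Two conjugates of a maximal subgroup of a maximal subgroup.
-/
import Mathlib.GroupTheory.Transfer
import Mathlib.GroupTheory.SpecificGroups.Cyclic
import Mathlib.GroupTheory.Coset.Card
import Cfsg.Agent.Lib.CentrallyLarge.Invariant
import Cfsg.Agent.Lib.Transfer.Fusion

namespace Cfsg.Agent.ExtremelyClosed

open Subgroup

variable {G : Type*} [Group G]

/-- Transfer: if conjugation never takes an element of `M \ H` into `M` from outside, the normal
closure of `H` meets `M` in `H`. -/
theorem normalClosure_inf_le [Finite G] {H M : Subgroup G} [(H.subgroupOf M).Normal]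
    (hcomm : ∀ a b : M ⧸ H.subgroupOf M, a * b = b * a)
    (hclosed : ∀ x ∈ H, ∀ g : G, g * x * g⁻¹ ∈ M → g * x * g⁻¹ ∈ H)
    (hkey : ∀ x ∈ M, x ∉ H → ∀ g : G, g * x * g⁻¹ ∈ M → g ∈ M) :
    normalClosure (H : Set G) ⊓ M ≤ H := by
  classical
  let : CommGroup (M ⧸ H.subgroupOf M) :=
    { (inferInstance : Group (M ⧸ H.subgroupOf M)) with mul_comm := hcomm }
  let φ : M →* M ⧸ H.subgroupOf M := QuotientGroup.mk' _
  have hφ : ∀ (x : G) (hx : x ∈ M), φ ⟨x, hx⟩ = 1 ↔ x ∈ H := fun x hx =>
    (QuotientGroup.eq_one_iff _).trans mem_subgroupOf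
  set V := MonoidHom.transfer φ with hVdef
  have := Fintype.ofFinite (G ⧸ M)
  have hH : ∀ h ∈ H, V h = 1 := by
    intro h hh
    have := Fintype.ofFinite (Quotient (MulAction.orbitRel (zpowers h) (G ⧸ M)))
    rw [hVdef, MonoidHom.transfer_eq_prod_quotient_orbitRel_zpowers_quot]
    refine Finset.prod_eq_one fun q _ => (hφ _ _).2 ?_
    have hm := QuotientGroup.out_conj_pow_minimalPeriod_mem M h q.out
    have := hclosed _ (pow_mem hh (Function.minimalPeriod (h • ·) q.out)) q.out.out⁻¹
      (by rwa [inv_inv])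
    rwa [inv_inv] at this
  have hker : normalClosure (H : Set G) ≤ V.ker := normalClosure_le_normal fun h hh => hH h hh
  rintro x ⟨hxN, hxM⟩
  by_contra hxH
  have hVx : V x = 1 := hker hxN
  have := Fintype.ofFinite (Quotient (MulAction.orbitRel (zpowers x) (G ⧸ M)))
  rw [hVdef, MonoidHom.transfer_eq_prod_quotient_orbitRel_zpowers_quot] at hVx
  set q0 : Quotient (MulAction.orbitRel (zpowers x) (G ⧸ M)) := Quotient.mk _ ((1 : G) : G ⧸ M)
    with hq0
  have hfix : ∀ k : zpowers x, k • ((1 : G) : G ⧸ M) = ((1 : G) : G ⧸ M) := by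
    intro k
    show (((k : G) * 1 : G) : G ⧸ M) = ((1 : G) : G ⧸ M)
    rw [QuotientGroup.eq]
    simpa using inv_mem (zpowers_le.2 hxM k.2)
  have hout : q0.out = ((1 : G) : G ⧸ M) := by
    have h1 : (MulAction.orbitRel (zpowers x) (G ⧸ M)) q0.out ((1 : G) : G ⧸ M) :=
      Quotient.mk_out (s := MulAction.orbitRel (zpowers x) (G ⧸ M)) ((1 : G) : G ⧸ M)
    obtain ⟨k, hk⟩ := h1
    exact hk.symm.trans (hfix k)
  rw [Fintype.prod_eq_single q0] at hVx
  · have hmp : Function.minimalPeriod (x • ·) q0.out = 1 := by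
      rw [Function.minimalPeriod_eq_one_iff_isFixedPt, hout]
      exact hfix ⟨x, mem_zpowers x⟩
    have hc : q0.out.out ∈ M := by
      have : ((q0.out.out : G) : G ⧸ M) = ((1 : G) : G ⧸ M) := by rw [QuotientGroup.out_eq', hout]
      rw [QuotientGroup.eq, mul_one] at this
      exact inv_mem_iff.1 this
    have h1 := (hφ _ _).1 hVx
    rw [hmp, pow_one] at h1
    have h2 := CLarge.conj_mem ((normal_subgroupOf_iff_le_normalizer_inf.1 inferInstance) hc) (mem_inf.2 ⟨h1, mul_mem (mul_mem (inv_mem hc) hxM) hc⟩)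
    exact hxH (by simpa [mul_assoc] using h2.1)
  · intro q hq
    refine (hφ _ _).2 ?_
    have hm := QuotientGroup.out_conj_pow_minimalPeriod_mem M x q.out
    set n := Function.minimalPeriod (x • ·) q.out
    by_cases hn : x ^ n ∈ H
    · have := hclosed _ hn q.out.out⁻¹ (by rwa [inv_inv])
      rwa [inv_inv] at this
    · exfalso
      have hg := hkey _ (pow_mem hxM n) hn q.out.out⁻¹ (by rwa [inv_inv])
      apply hq
      rw [hq0, ← Quotient.out_eq q]
      congr 1
      rw [← QuotientGroup.out_eq' q.out, QuotientGroup.eq, mul_one]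
      exact hg

theorem comm_of_coatom {H M : Subgroup G} [Finite G] [(H.subgroupOf M).Normal]
    (hmax : IsCoatom (H.subgroupOf M)) : ∀ a b : M ⧸ H.subgroupOf M, a * b = b * a := by
  intro a b
  by_cases ha : a = 1
  · subst ha; simp
  obtain ⟨x, rfl⟩ := QuotientGroup.mk_surjective a
  have hx : x ∉ H.subgroupOf M := fun h => ha ((QuotientGroup.eq_one_iff x).2 h)
  have htop : (zpowers (x : M ⧸ H.subgroupOf M)).comap (QuotientGroup.mk' _) = ⊤ := by
    refine hmax.2 _ (lt_of_le_of_ne (fun y hy => ?_) fun h => hx ?_)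
    · rw [mem_comap, QuotientGroup.mk'_apply, (QuotientGroup.eq_one_iff y).2 hy]; exact one_mem _
    · rw [h, mem_comap]; exact mem_zpowers _
  obtain ⟨y, rfl⟩ := QuotientGroup.mk_surjective b
  obtain ⟨i, hi⟩ := mem_zpowers_iff.1 (mem_comap.1 (htop ▸ mem_top y))
  rw [QuotientGroup.mk'_apply] at hi
  rw [← hi]
  exact ((Commute.refl _).zpow_right i).eq

theorem inf_eq_of_maximal [Finite G] {H M : Subgroup G} (hHM : H ≤ M)
    (hcl : ∀ g : G, (H ⊔ H.map (MulAut.conj g).toMonoidHom) ⊓ M = H)
    (hmaxH : IsCoatom (H.subgroupOf M)) (hmaxM : IsCoatom M) :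
    normalClosure (H : Set G) ⊓ M = H := by
  refine le_antisymm ?_ (le_inf le_normalClosure hHM)
  have hMN : M ≤ normalizer (H : Set G) := by
    refine CLarge.le_normalizer_of_forall fun g hg x hx => ?_
    exact (hcl g).le ⟨mem_sup_right ⟨x, hx, rfl⟩, M.mul_mem (M.mul_mem hg (hHM hx)) (M.inv_mem hg)⟩
  have hHn : (H.subgroupOf M).Normal := normal_subgroupOf_of_le_normalizer hMN
  have hclosed : ∀ x ∈ H, ∀ g : G, g * x * g⁻¹ ∈ M → g * x * g⁻¹ ∈ H := fun x hx g hy =>
    (hcl g).le ⟨mem_sup_right ⟨x, hx, rfl⟩, hy⟩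
  by_cases hN : normalClosure (H : Set G) ⊓ M ≤ H
  · exact hN
  refine absurd (normalClosure_inf_le (comm_of_coatom hmaxH) hclosed ?_) hN
  intro x hxM hxH g hy
  have hyH : g * x * g⁻¹ ∉ H := by
    intro h
    have h2 := hclosed _ h g⁻¹ (by simpa [mul_assoc] using hxM)
    exact hxH (by simpa [mul_assoc] using h2)
  set y := g * x * g⁻¹
  set X := H ⊔ H.map (MulAut.conj g).toMonoidHom with hX
  have hHX : H ≤ normalizer (X : Set G) := le_sup_left.trans le_normalizer
  have hyX : y ∈ normalizer (X : Set G) := by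
    refine CLarge.le_normalizer_sup' (S := zpowers y) ?_ ?_ (mem_zpowers y)
    · exact zpowers_le.2 (hMN hy)
    · rw [zpowers_le, mem_normalizer_iff_map_conj_eq]
      refine eq_of_le_of_card_ge ?_ (Product.card_map_conj _ _).ge
      rintro _ ⟨_, ⟨h, hh, rfl⟩, rfl⟩
      exact ⟨x * h * x⁻¹, CLarge.conj_mem (hMN hxM) hh, by simp [y, mul_assoc]⟩
  have hMX : M ≤ normalizer (X : Set G) := by
    have h2 : (normalizer (X : Set G) ⊓ M).subgroupOf M = ⊤ := by
      refine hmaxH.2 _ (lt_of_le_of_ne (fun z hz => ⟨hHX hz, z.2⟩) fun h => hyH ?_)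
      exact (h ▸ mem_subgroupOf.2 ⟨hyX, hy⟩ : (⟨y, hy⟩ : M) ∈ H.subgroupOf M)
    exact fun z hz => ((subgroupOf_eq_top.1 h2) hz).1
  rcases eq_or_lt_of_le hMX with hEq | hlt
  · have hXH : X = H := by
      have h1 := hcl g
      rw [← hX, inf_of_le_left (le_normalizer.trans hEq.ge)] at h1
      exact h1
    have hg : g ∈ normalizer (H : Set G) := by
      rw [mem_normalizer_iff_map_conj_eq]
      have hle : H.map (MulAut.conj g).toMonoidHom ≤ X := le_sup_right
      rw [hXH] at hle
      exact eq_of_le_of_card_ge hle (Product.card_map_conj H g).ge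
    rw [hXH] at hEq
    exact hEq.ge hg
  · have hXn : X.Normal := normalizer_eq_top_iff.1 (hmaxM.2 _ hlt)
    refine absurd ?_ hN
    exact (inf_le_inf_right M (normalClosure_le_normal (N := X) (SetLike.coe_subset_coe.2 (le_sup_left : H ≤ X)))).trans (hcl g).le

theorem exists_two_generate [Finite G] [IsSimpleGroup G] (hG : ¬ IsMulCommutative G) {M H : Subgroup G}
    (hmaxM : IsCoatom M) (hHM : H ≤ M) (hHn : (H.subgroupOf M).Normal)
    (hidx : (H.relIndex M).Prime) : ∃ g : G, H ⊔ H.map (MulAut.conj g).toMonoidHom = ⊤ := by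
  by_contra hcon
  push Not at hcon
  set p := H.relIndex M with hp
  have := Fact.mk hidx
  have hMN : M ≤ normalizer (H : Set G) := (normal_subgroupOf_iff_le_normalizer hHM).1 hHn
  have hcoat : IsCoatom (H.subgroupOf M) := by
    refine ⟨fun h => hidx.ne_one ?_, fun K hK => ?_⟩
    · show (H.subgroupOf M).index = 1
      rw [h, index_top]
    · have h1 := relIndex_mul_index hK.le
      rcases hidx.eq_one_or_self_of_dvd _ ⟨(H.subgroupOf M).relIndex K, by
          rw [mul_comm]; exact h1.symm⟩ with h2 | h2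
      · exact index_eq_one.1 h2
      · have h3 : (H.subgroupOf M).relIndex K = 1 := by
          rw [h2] at h1
          exact Nat.eq_of_mul_eq_mul_right hidx.pos (h1.trans (one_mul p).symm)
        exact absurd (le_antisymm hK.le (relIndex_eq_one.1 h3)) hK.ne
  have hcard : ∀ g : G, Nat.card (H.map (MulAut.conj g).toMonoidHom : Subgroup G) = Nat.card H :=
    fun g => Product.card_map_conj H g
  -- conjugates of `H` in `M` coincide with `H`
  have hconjM : ∀ g : G, H.map (MulAut.conj g).toMonoidHom ≤ M → H.map (MulAut.conj g).toMonoidHom = H := by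
    intro g hgM
    by_contra hne
    have hgMn : g ∉ M := fun h => hne (mem_normalizer_iff_map_conj_eq.1 (hMN h))
    set R := closure {x : G | x ∈ M ∧ (orderOf x).Coprime p} with hR
    have hRH : R ≤ H := by
      refine (closure_le _).2 fun x ⟨hxM, hxo⟩ => ?_
      have h1 : orderOf ((⟨x, hxM⟩ : M) : M ⧸ H.subgroupOf M) ∣ p := by
        have h := orderOf_dvd_natCard ((⟨x, hxM⟩ : M) : M ⧸ H.subgroupOf M)
        rwa [← index_eq_card] at h
      have h2 := orderOf_map_dvd (QuotientGroup.mk' (H.subgroupOf M)) ⟨x, hxM⟩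
      rw [orderOf_mk] at h2
      have h3 := Nat.eq_one_of_dvd_coprimes hxo h2 h1
      exact mem_subgroupOf.1 ((QuotientGroup.eq_one_iff _).1 (orderOf_eq_one_iff.1 h3))
    have hnorm : ∀ z : G, (∀ x ∈ M, (orderOf x).Coprime p → z * x * z⁻¹ ∈ M) →
        R.map (MulAut.conj z).toMonoidHom ≤ R := by
      intro z hz
      rw [hR, MonoidHom.map_closure, closure_le]
      rintro _ ⟨x, ⟨hxM, hxo⟩, rfl⟩
      exact subset_closure ⟨hz x hxM hxo, by rw [MulEquiv.coe_toMonoidHom, MulEquiv.orderOf_eq]; exact hxo⟩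
    have hgR : g ∈ normalizer (R : Set G) := mem_normalizer_iff_map_conj_eq.2
      (eq_of_le_of_card_ge (hnorm g fun x hxM hxo =>
        hgM ⟨x, hRH (subset_closure ⟨hxM, hxo⟩), rfl⟩) (Product.card_map_conj R g).ge)
    have hMR : M ≤ normalizer (R : Set G) := fun m hm => mem_normalizer_iff_map_conj_eq.2
      (eq_of_le_of_card_ge (hnorm m fun x hxM _ => mul_mem (mul_mem hm hxM) (inv_mem hm))
        (Product.card_map_conj R m).ge)
    have hRn : R.Normal := normalizer_eq_top_iff.1
      (hmaxM.2 _ (lt_of_le_of_ne hMR fun h => hgMn (h ▸ hgR)))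
    have hRbot : R = ⊥ := by
      rcases IsSimpleGroup.eq_bot_or_eq_top_of_normal R hRn with h | h
      · exact h
      · exact absurd (top_le_iff.1 (h ▸ hRH.trans hHM)) hmaxM.1
    have hMp : IsPGroup p M := by
      rw [PBasic.isPGroup_iff_forall_coprime]
      intro x hx
      have h : (x : G) ∈ R := subset_closure ⟨x.2, by rwa [orderOf_coe]⟩
      rw [hRbot, mem_bot] at h
      exact Subtype.ext h
    set H' := H.map (MulAut.conj g).toMonoidHom
    have hidx' : (H'.subgroupOf M).index = p := by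
      have h1 := (H'.subgroupOf M).card_mul_index
      have h2 := (H.subgroupOf M).card_mul_index
      rw [Nat.card_congr (subgroupOfEquivOfLe hgM).toEquiv, hcard] at h1
      rw [Nat.card_congr (subgroupOfEquivOfLe hHM).toEquiv] at h2
      exact Nat.eq_of_mul_eq_mul_left Nat.card_pos (h1.trans h2.symm)
    have hn' : (H'.subgroupOf M).Normal := by
      refine normal_of_index_eq_minFac_card ?_
      obtain ⟨n, hn⟩ := hMp.exists_card_eq
      have hn0 : n ≠ 0 := by
        rintro rfl
        have := (H.subgroupOf M).index_dvd_card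
        rw [hn, pow_zero] at this
        exact hidx.ne_one (Nat.dvd_one.1 this)
      rw [hidx', hn, Nat.pow_minFac hn0, hidx.minFac_eq]
    have hMN' : M ≤ normalizer (H' : Set G) := (normal_subgroupOf_iff_le_normalizer hgM).1 hn'
    have hsup : normalizer (H' : Set G) = ⊤ := by
      refine hmaxM.2 _ (lt_of_le_of_ne hMN' fun h => ?_)
      -- conjugates of `M` normalise `H'`
      have hsub : M.map (MulAut.conj g).toMonoidHom ≤ M := by
        rintro _ ⟨m, hm, rfl⟩
        rw [h]
        refine mem_normalizer_iff_map_conj_eq.2 (eq_of_le_of_card_ge ?_ (Product.card_map_conj _ _).ge)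
        rintro _ ⟨_, ⟨x, hx, rfl⟩, rfl⟩
        exact ⟨m * x * m⁻¹, CLarge.conj_mem (hMN hm) hx, by simp [mul_assoc]⟩
      have hgNM : g ∈ normalizer (M : Set G) :=
        mem_normalizer_iff_map_conj_eq.2 (eq_of_le_of_card_ge hsub (Product.card_map_conj M g).ge)
      have hMn : M.Normal := normalizer_eq_top_iff.1
        (hmaxM.2 _ (lt_of_le_of_ne le_normalizer fun h => hgMn (h ▸ hgNM)))
      rcases IsSimpleGroup.eq_bot_or_eq_top_of_normal M hMn with h' | h'
      · exact hidx.ne_one (by rw [hp, h', relIndex_bot_right])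
      · exact hmaxM.1 h'
    rcases IsSimpleGroup.eq_bot_or_eq_top_of_normal H' (normalizer_eq_top_iff.1 hsup) with h | h
    · have hH : H = ⊥ := by
        rwa [Subgroup.map_eq_bot_iff_of_injective _ (MulEquiv.injective _)] at h
      exact hne (h.trans hH.symm)
    · exact hmaxM.1 (top_le_iff.1 (h ▸ hgM))
  have hcl : ∀ g : G, (H ⊔ H.map (MulAut.conj g).toMonoidHom) ⊓ M = H := by
    intro g
    set X := H ⊔ H.map (MulAut.conj g).toMonoidHom with hX
    by_contra hne
    have htop : (X ⊓ M).subgroupOf M = ⊤ := by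
      refine hcoat.2 _ (lt_of_le_of_ne (fun z hz => ⟨mem_sup_left hz, z.2⟩) fun h => hne ?_)
      have h1 := congrArg (Subgroup.map M.subtype) h
      rw [subgroupOf_map_subtype, subgroupOf_map_subtype, inf_of_le_left hHM,
        inf_of_le_left inf_le_right] at h1
      exact h1.symm
    have hMX : M ≤ X := fun z hz => ((subgroupOf_eq_top.1 htop) hz).1
    rcases eq_or_lt_of_le hMX with hEq | hlt
    · have h := hconjM g (hEq ▸ le_sup_right)
      refine hne ?_
      rw [hX, h, sup_idem]
      exact inf_of_le_left hHM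
    · exact hcon g (hmaxM.2 _ hlt)
  have hfin := inf_eq_of_maximal hHM hcl hcoat hmaxM
  rcases IsSimpleGroup.eq_bot_or_eq_top_of_normal _ (normalClosure_normal (s := (H : Set G))) with h | h
  · have hH : H = ⊥ := le_bot_iff.1 (h ▸ le_normalClosure)
    -- `M` has prime order and is a maximal subgroup
    have hMp : Nat.card M = p := by rw [hp, hH, relIndex_bot_left]
    have hnorm : normalizer (M : Set G) = M := by
      rcases eq_or_lt_of_le (le_normalizer (H := M)) with e | e
      · exact e.symm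
      · exfalso
        rcases IsSimpleGroup.eq_bot_or_eq_top_of_normal M (normalizer_eq_top_iff.1 (hmaxM.2 _ e)) with h' | h'
        · rw [h', card_bot] at hMp; exact hidx.ne_one hMp.symm
        · exact hmaxM.1 h'
    obtain ⟨P, hP⟩ := (IsPGroup.of_card (n := 1) (by rw [hMp, pow_one]) : IsPGroup p M).exists_le_sylow
    have hMeq : (P : Subgroup G) = M := by
      by_contra hne
      have hlt : M < (P : Subgroup G) := lt_of_le_of_ne hP (Ne.symm hne)
      have := Fusion.lt_inf_normalizer P.isPGroup'.isNilpotent hlt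
      rw [hnorm] at this
      exact lt_irrefl _ (this.trans_le inf_le_right)
    have hM : IsCyclic M := isCyclic_of_prime_card hMp
    have hcent : normalizer ((P : Subgroup G) : Set G) ≤ centralizer ((P : Subgroup G) : Set G) := by
      rw [hMeq, hnorm]
      have := hM.isMulCommutative
      exact le_centralizer M
    have hc := MonoidHom.ker_transferSylow_isComplement' P hcent
    rcases IsSimpleGroup.eq_bot_or_eq_top_of_normal _ (MonoidHom.transferSylow P hcent).normal_ker with h' | h'
    · rw [h'] at hc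
      rw [isComplement'_bot_left] at hc
      rw [hMeq] at hc
      exact hmaxM.1 hc
    · rw [h'] at hc
      rw [isComplement'_top_left, hMeq] at hc
      rw [hc, card_bot] at hMp
      exact hidx.ne_one hMp.symm
  · rw [h, top_inf_eq] at hfin
    exact hidx.ne_one (by rw [hp, hfin, relIndex_self])

end Cfsg.Agent.ExtremelyClosed
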