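/-
A subgroup contained in every nontrivial subgroup it normalises.
-/
import Cfsg.Agent.Lib.Solvable.FixedPointFree
import Cfsg.Agent.Lib.Solvable.Basic
import Mathlib.RingTheory.ZMod.UnitsCyclic
import Mathlib.GroupTheory.Subgroup.Simple

namespace Cfsg.Agent.InEvery

open Subgroup

theorem isCyclic_quaternion_one : IsCyclic (QuaternionGroup 1) :=
  isCyclic_of_orderOf_eq_card (QuaternionGroup.xa 0) (by
    rw [QuaternionGroup.orderOf_xa, Nat.card_eq_fintype_card, QuaternionGroup.card])

theorem structure_of_inEvery {F : Type*} [Group F] [Finite F] (H : Subgroup F) (hH : H ≠ ⊥)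
    (hmin : ∀ R : Subgroup F, R ≠ ⊥ → H ≤ normalizer (R : Set F) → H ≤ R) :
    ∃ N : Subgroup F, N.Normal ∧ N ≠ ⊥ ∧ (∀ M : Subgroup F, M.Normal → M ≠ ⊥ → N ≤ M) ∧ IsSimpleGroup ↥N ∧
      (centralizer (N : Set F) = ⊥ ∨
       (H = N ∧ (Nat.card N).Prime ∧ IsCyclic ↥(centralizer (N : Set F)) ∧
          (∃ k : ℕ, 1 ≤ k ∧ Nat.card ↥(centralizer (N : Set F)) = Nat.card N ^ k) ∧
          (∃ g : F, centralizer (N : Set F) ⊔ zpowers g = ⊤) ∧
          (centralizer (N : Set F)).index ∣ Nat.card N - 1) ∨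
       (H = N ∧ Nat.card N = 2 ∧ centralizer (N : Set F) = ⊤ ∧
          ∃ k : ℕ, 1 ≤ k ∧ Nonempty (F ≃* QuaternionGroup (2 ^ k)))) := by
  have htop : (⊤ : Subgroup F) ≠ ⊥ := fun h => hH (le_bot_iff.1 (h ▸ le_top))
  obtain ⟨N, hN, hN1, -, hNmin⟩ := SolvBasic.exists_minimal_normal (inferInstance : (⊤ : Subgroup F).Normal) htop
  have hHN : H ≤ N := hmin N hN1 le_normalizer_of_normal
  have huniq : ∀ M : Subgroup F, M.Normal → M ≠ ⊥ → N ≤ M := by
    intro M hM hM1
    have hne : N ⊓ M ≠ ⊥ := fun h => hH (le_bot_iff.1 (h ▸ le_inf hHN (hmin M hM1 le_normalizer_of_normal)))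
    rcases hNmin (N ⊓ M) inferInstance inf_le_left with h | h
    · exact absurd h hne
    · exact h ▸ inf_le_right
  have hsimple : IsSimpleGroup N := by
    have hnt : Nontrivial N := (nontrivial_iff_ne_bot N).2 hN1
    refine ⟨fun T hT => ?_⟩
    by_cases hT1 : T = ⊥
    · exact Or.inl hT1
    right
    set T' := T.map N.subtype with hT'
    have hnorm : N ≤ normalizer (T' : Set F) := by
      rw [← inf_of_le_left (le_refl N), hT']
      intro x hx
      rw [mem_normalizer_iff_map_conj_eq]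
      refine eq_of_le_of_card_ge ?_ (Nat.card_congr ((T.map N.subtype).equivMapOfInjective _ (MulAut.conj x).injective).toEquiv).le
      rintro _ ⟨_, ⟨t, ht, rfl⟩, rfl⟩
      exact ⟨⟨x, hx.1⟩ * t * ⟨x, hx.1⟩⁻¹, hT.conj_mem t ht _, rfl⟩
    have hcore : H ≤ T'.normalCore := by
      intro h hh g
      have hne : T'.map (MulAut.conj g⁻¹).toMonoidHom ≠ ⊥ := by
        rw [ne_eq, map_eq_bot_iff_of_injective _ (MulEquiv.injective _), hT',
          map_eq_bot_iff_of_injective _ N.subtype_injective]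
        exact hT1
      have hHnorm : H ≤ normalizer ((T'.map (MulAut.conj g⁻¹).toMonoidHom : Subgroup F) : Set F) := by
        intro y hy
        have hy' : g * y * g⁻¹ ∈ normalizer (T' : Set F) := hnorm (hN.conj_mem y (hHN hy) g)
        rw [mem_normalizer_iff_map_conj_eq] at hy' ⊢
        rw [Subgroup.map_map]
        conv_rhs => rw [← hy', Subgroup.map_map]
        congr 1
        ext z
        simp [mul_assoc]
      obtain ⟨t, ht, e⟩ := hmin _ hne hHnorm hh
      rw [← e]
      simpa [mul_assoc] using ht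
    have hne : T'.normalCore ≠ ⊥ := fun h => hH (le_bot_iff.1 (h ▸ hcore))
    have hle : N ≤ T' := (huniq _ inferInstance hne).trans (normalCore_le T')
    exact eq_top_iff.2 fun x _ => by
      obtain ⟨t, ht, e⟩ := hle x.2
      exact (Subtype.ext e : t = x) ▸ ht
  refine ⟨N, hN, hN1, huniq, hsimple, ?_⟩
  set C := centralizer (N : Set F) with hC
  by_cases hC1 : C = ⊥
  · exact Or.inl hC1
  right
  have hNC : N ≤ C := huniq C inferInstance hC1
  have hNab : IsMulCommutative N := le_centralizer_iff_isMulCommutative.1 hNC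
  set q := Nat.card N with hq
  have hp : q.Prime := by
    let : CommGroup N := { (inferInstance : Group N) with mul_comm := fun a b => hNab.is_comm.comm a b }
    exact IsSimpleGroup.prime_card
  have := Fact.mk hp
  have hHeq : H = N := by
    refine le_antisymm hHN ?_
    rcases hp.eq_one_or_self_of_dvd _ (card_dvd_of_le hHN) with h | h
    · exact absurd (eq_bot_of_card_eq H h) hH
    · exact (eq_of_le_of_card_ge hHN h.ge).ge
  have hsub : ∀ R : Subgroup F, R ≤ C → R ≠ ⊥ → N ≤ R := fun R hR hR1 => hHeq ▸ hmin R hR1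
    ((hHeq.le.trans (le_centralizer_iff.1 hR)).trans (centralizer_le_normalizer _))
  have hord : ∀ x ∈ C, (orderOf x).Prime → zpowers x = N := by
    intro x hx hxp
    have h := hsub (zpowers x) (zpowers_le.2 hx) (zpowers_ne_bot.2 fun e => by
      rw [e, orderOf_one] at hxp; exact Nat.not_prime_one hxp)
    refine (eq_of_le_of_card_ge h ?_).symm
    rcases hxp.eq_one_or_self_of_dvd _ (Nat.card_zpowers x ▸ card_dvd_of_le h) with h' | h'
    · exact absurd h' hp.ne_one
    · rw [Nat.card_zpowers]; exact h'.ge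
  obtain ⟨k, hk⟩ : ∃ k, Nat.card C = q ^ k := by
    refine ⟨_, Nat.eq_prime_pow_of_unique_prime_dvd Nat.card_pos.ne' fun {d} hd hdd => ?_⟩
    have := Fact.mk hd
    obtain ⟨x, hx⟩ := exists_prime_orderOf_dvd_card' (G := C) d hdd
    rw [← orderOf_coe] at hx
    have h := hord x x.2 (by rw [hx]; exact hd)
    rw [hq, ← h, Nat.card_zpowers, hx]
  have hk1 : 1 ≤ k := by
    by_contra h
    rw [show k = 0 by omega, pow_zero] at hk
    exact hC1 (eq_bot_of_card_eq C hk)
  have hab : AbCyc.AbCyclic C := by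
    intro B hB
    by_contra hnc
    obtain ⟨r, E, hr, hE, hexp⟩ := CoprimeAct.exists_elementary_of_not_isCyclic hnc
    have hle : (E.map B.subtype).map C.subtype ≤ N := by
      rintro _ ⟨_, ⟨e, he, rfl⟩, rfl⟩
      by_cases he1 : e = 1
      · rw [he1, map_one, map_one]; exact one_mem N
      have ho : orderOf ((e : B) : C) = r := by
        have := Fact.mk hr
        refine orderOf_eq_prime ?_ ?_
        · have h := congrArg (fun y : E => ((y : B) : C)) (hexp ⟨e, he⟩)
          simpa using h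
        · exact fun h => he1 (Subtype.ext h)
      have h := hord ((e : B) : C) ((e : B) : C).2 (by rw [orderOf_coe, ho]; exact hr)
      exact h ▸ mem_zpowers _
    have h1 := card_dvd_of_le hle
    rw [card_map_of_injective C.subtype_injective, card_map_of_injective B.subtype_injective, hE] at h1
    rcases hp.eq_one_or_self_of_dvd _ h1 with h | h
    · exact hr.ne_one (Nat.eq_one_of_mul_eq_one_right ((sq r).symm.trans h))
    · have hr2 : (r ^ 2).Prime := h.symm ▸ hp
      rcases hr2.eq_one_or_self_of_dvd r (dvd_pow_self r two_ne_zero) with h' | h'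
      · exact hr.ne_one h'
      · exact hr.ne_one (Nat.eq_of_mul_eq_mul_left hr.pos (((sq r).symm.trans h'.symm).trans (mul_one r).symm))
  have hCp : IsPGroup q C := IsPGroup.of_card hk
  have hnat : normalizer (N : Set F) = ⊤ := normalizer_eq_top_iff.2 hN
  let ψ : F →* MulAut N := (normalizerMonoidHom N).comp
    ((MonoidHom.id F).codRestrict (normalizer (N : Set F)) fun x => by rw [hnat]; trivial)
  have hψ : ψ.ker = C := by
    ext x
    rw [MonoidHom.mem_ker]
    show (normalizerMonoidHom N) ⟨x, _⟩ = 1 ↔ _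
    rw [← MonoidHom.mem_ker, normalizerMonoidHom_ker, mem_subgroupOf]
  have hNcyc : IsCyclic N := isCyclic_of_prime_card rfl
  have hidx : C.index ∣ q - 1 := by
    rw [← hψ, index_ker, ← Nat.totient_prime hp, hq, ← IsCyclic.card_mulAut]
    exact card_subgroup_dvd_card _
  rcases FpfStruct.cyclic_or_quaternion hCp hab with hc | ⟨hq2, n, ⟨e⟩⟩
  · refine Or.inl ⟨hHeq, hp, hc, ⟨k, hk1, hk⟩, ?_, hidx⟩
    have hAutc : IsCyclic (MulAut N) := by
      have h := (IsCyclic.mulAutMulEquiv N)
      have hz : IsCyclic (ZMod (Nat.card N))ˣ := ZMod.isCyclic_units_prime hp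
      exact isCyclic_of_surjective h.symm h.symm.surjective
    obtain ⟨⟨_, g, rfl⟩, hg⟩ := (inferInstance : IsCyclic ψ.range).exists_generator
    refine ⟨g, eq_top_iff.2 fun x _ => ?_⟩
    obtain ⟨i, hi⟩ := mem_zpowers_iff.1 (hg ⟨ψ x, x, rfl⟩)
    have hi' : ψ g ^ i = ψ x := congrArg Subtype.val hi
    have : x * (g ^ i)⁻¹ ∈ C := by
      rw [← hψ, MonoidHom.mem_ker, map_mul, map_inv, map_zpow, hi', mul_inv_cancel]
    simpa using mul_mem (mem_sup_left this) (mem_sup_right (zpow_mem (mem_zpowers g) i))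
  · rw [hq2] at hidx
    have hCtop : C = ⊤ := index_eq_one.1 (Nat.dvd_one.1 hidx)
    rcases Nat.eq_zero_or_pos n with rfl | hn
    · have hcy : IsCyclic C := by
        have : IsCyclic (QuaternionGroup (2 ^ 0)) := isCyclic_quaternion_one
        exact isCyclic_of_surjective e.symm e.symm.surjective
      refine Or.inl ⟨hHeq, hp, hcy, ⟨k, hk1, hk⟩, ⟨1, ?_⟩, hq2 ▸ hidx⟩
      rw [hCtop, top_sup_eq]
    · exact Or.inr ⟨hHeq, hq2, hCtop, n, hn,
        ⟨((topEquiv.symm.trans (MulEquiv.subgroupCongr hCtop.symm)).trans e)⟩⟩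

end Cfsg.Agent.InEvery
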